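import Groth.Agent.Lib.Helper2.TFRep.Main
import Groth.Agent.Lib.Helper12.Dev8

/-! # Dévissage with two implications and roots: the irreducible step -/

set_option autoImplicit false
universe u v
open CategoryTheory CategoryTheory.Limits AlgebraicGeometry TopologicalSpace Opposite
open Groth.Agent.Lib.Helper29.QCoh Groth.Agent.Lib.Helper3
open Groth.Agent.Lib.Helper12.H12ModGlue Groth.Agent.Lib.Helper12.H12Dev

namespace Groth.Agent.Lib.Helper2.TFRep

variable {X : Scheme.{u}}

theorem mono_ηI_of_isTF (B : X.Modules) (y : X) (hTF : IsTF y B) (U : X.Opens) (hy : y ∈ U) :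
    Mono ((ηI U.ι).app B) := by
  rw [mono_iff_app_injective]
  intro V a b hab
  rw [ηI_app_app, ηI_app_app] at hab
  have h0 : res B (U.ι.image_preimage_le V) (a - b) = 0 := by
    rw [map_sub, hab, sub_self]
  have h1 : a - b = 0 := by
    apply hTF V (a - b)
    intro h
    have hy' : y ∈ U.ι ''ᵁ (U.ι ⁻¹ᵁ V) := by
      rw [Scheme.Hom.image_preimage_eq_opensRange_inf, Scheme.Opens.opensRange_ι]
      exact ⟨hy, h⟩
    rw [← germ_res B (U.ι.image_preimage_le V) y hy', h0, map_zero]
  exact sub_eq_zero.mp h1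


section ChainS
variable [IsNoetherian X]

attribute [local instance] CategoryTheory.Abelian.hasFiniteBiproducts

/-- The two implications of the statement. -/
def TwoImp (K : X.Modules → Prop) : Prop :=
  ∀ S : ShortComplex X.Modules, S.ShortExact → Coh.IsCoh S.X₁ → Coh.IsCoh S.X₂ → Coh.IsCoh S.X₃ →
    (K S.X₂ → K S.X₃ → K S.X₁) ∧ (K S.X₁ → K S.X₃ → K S.X₂)

/-- If `G ∈ K` is `y`-torsion-free with `G_y ≅ (T_y)^q`, then `T^q ∈ K`. -/
theorem mem_biproduct_of_stalk_equiv_tf {K : X.Modules → Prop} (ha : TwoImp K) (Z : Set X) (y : X)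
    (hsmall : ∀ F : X.Modules, Coh.IsCoh F → CohB1.support F ⊆ Z → y ∉ CohB1.support F → K F)
    (G : X.Modules) (hG : Coh.IsCoh G) (hKG : K G) (hGsupp : CohB1.support G ⊆ Z)
    (hTF : IsTF y G) (q : ℕ)
    (T : X.Modules) (hT : Coh.IsCoh T) (hTsupp : CohB1.support T ⊆ Z)
    (e : (Fin q → T.presheaf.stalk y) ≃ₗ[X.presheaf.stalk y] G.presheaf.stalk y) :
    K (⨁ fun _ : Fin q => T) := by
  have hP : Coh.IsCoh (⨁ fun _ : Fin q => T) :=
    Groth.Agent.Lib.Lead.LinLES.isCoh_biproduct _ (fun _ => hT)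
  have hPsupp : CohB1.support (⨁ fun _ : Fin q => T) ⊆ Z :=
    support_biproduct_subset _ Z (fun _ => hTsupp)
  let ψ : RefHull.StalkHom (⨁ fun _ : Fin q => T) G y :=
    e.toLinearMap ∘ₗ (stalkBiproductEquiv (fun _ : Fin q => T) y).toLinearMap
  have hψ : Function.Bijective ψ :=
    e.bijective.comp (stalkBiproductEquiv (fun _ : Fin q => T) y).bijective
  obtain ⟨H, v, w, U, hH, hyU, hv, hw, hvmono, hmono⟩ := exists_correspondence hP hG y ψ
  have := hmono
  have : Mono v := hvmono (mono_ηI_of_isTF G y hTF U hyU)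
  have hHsupp : CohB1.support H ⊆ Z :=
    (support_subset_of_mono_lift v w).trans (Set.union_subset hPsupp hGsupp)
  have hvbij := hv y hyU
  have hwbij : Function.Bijective (stalkMap w y) := by
    have : (stalkMap w y : _ → _) = ψ ∘ (stalkMap v y : _ → _) := funext hw
    rw [this]
    exact hψ.comp hvbij
  have hcv : K (cokernel v) := hsmall _ (isCoh_cokernel v hH hP)
    ((support_subset_of_epi (cokernel.π v)).trans hPsupp) (notMem_support_cokernel v y hvbij.2)
  have hkw : K (kernel w) := hsmall _ (isCoh_kernel w hH hG)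
    ((support_subset_of_mono (kernel.ι w)).trans hHsupp) (notMem_support_kernel w y hwbij.1)
  have hcw : K (cokernel w) := hsmall _ (isCoh_cokernel w hH hG)
    ((support_subset_of_epi (cokernel.π w)).trans hGsupp) (notMem_support_cokernel w y hwbij.2)
  -- image of `w`
  have hIm : Coh.IsCoh (Abelian.image w) := isCoh_image w hH hG
  have hKIm : K (Abelian.image w) :=
    (ha (sesImCoker w) (sesImCoker_shortExact w) hIm hG (isCoh_cokernel w hH hG)).1 hKG hcw
  have hKH : K H :=
    (ha (sesKerIm w) (sesKerIm_shortExact w) (isCoh_kernel w hH hG) hH hIm).2 hkw hKIm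
  have hSES : (ShortComplex.mk v (cokernel.π v) (cokernel.condition v)).ShortExact :=
    ShortComplex.ShortExact.mk (ShortComplex.exact_cokernel v)
  exact (ha _ hSES hH hP (isCoh_cokernel v hH hP)).2 hKH hcv

end ChainS


section TopS
variable [IsNoetherian X]

attribute [local instance] CategoryTheory.Abelian.hasFiniteBiproducts

open IsLocalRing in
theorem mem_of_simple_of_killed {K : X.Modules → Prop} (ha : TwoImp K)
    (hroot : ∀ (F : X.Modules) (q : ℕ), 0 < q → Coh.IsCoh F → K (⨁ fun _ : Fin q => F) → K F)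
    (Z : Set X) (hZ : IsClosed Z) (y : X) (hy : closure {y} = Z)
    (G : X.Modules) (hG : Coh.IsCoh G) (hKG : K G) (hGsupp : CohB1.support G ⊆ Z)
    (hkill : ClSub.KilledByIdeal (Scheme.IdealSheafData.vanishingIdeal ⟨Z, hZ⟩) G)
    (hyG : y ∈ CohB1.support G)
    (hsmall : ∀ F : X.Modules, Coh.IsCoh F → CohB1.support F ⊆ Z → y ∉ CohB1.support F → K F)
    (T : X.Modules) (hT : Coh.IsCoh T) (hTsupp : CohB1.support T ⊆ Z)
    (hTs : IsSimpleModule (X.presheaf.stalk y) (T.presheaf.stalk y)) : K T := by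
  have := hG.1
  have := hG.2
  haveI : Nontrivial (G.presheaf.stalk y) := (mem_support_iff G y).mp hyG
  haveI : Module.Finite (X.presheaf.stalk y) (G.presheaf.stalk y) :=
    Groth.Agent.Lib.Helper17.ZClosDepth.module_finite_stalk G y
  haveI := hTs
  obtain ⟨q, hq, ⟨e⟩⟩ := exists_pi_linearEquiv_of_killed (R := X.presheaf.stalk y)
    (G.presheaf.stalk y) (smul_stalk_eq_zero_of_killedByIdeal G Z hZ y hy hkill)
    (T.presheaf.stalk y)
  obtain ⟨G', m, hmono, hG', hsurj, hTF⟩ := exists_tf_sub G hG y (hGsupp.trans hy.ge)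
  have := hmono
  have hG'supp : CohB1.support G' ⊆ Z := (support_subset_of_mono m).trans hGsupp
  have hinj : Function.Injective (RefHull.stalkMapₗ m y) :=
    (mono_iff_stalkMap_injective m).mp inferInstance y
  have hsurj' : Function.Surjective (RefHull.stalkMapₗ m y) := hsurj
  let em : G'.presheaf.stalk y ≃ₗ[X.presheaf.stalk y] G.presheaf.stalk y :=
    LinearEquiv.ofBijective (RefHull.stalkMapₗ m y) ⟨hinj, hsurj'⟩
  have hcm : K (cokernel m) := hsmall _ (isCoh_cokernel m hG' hG)
    ((support_subset_of_epi (cokernel.π m)).trans hGsupp) (notMem_support_cokernel m y hsurj)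
  have hSES : (ShortComplex.mk m (cokernel.π m) (cokernel.condition m)).ShortExact :=
    ShortComplex.ShortExact.mk (ShortComplex.exact_cokernel m)
  have hKG' : K G' := (ha _ hSES hG' hG (isCoh_cokernel m hG' hG)).1 hKG hcm
  exact hroot T q hq hT
    (mem_biproduct_of_stalk_equiv_tf ha Z y hsmall G' hG' hKG' hG'supp hTF q T hT hTsupp
      (e.trans em.symm))

/-- **Dévissage with two implications and roots.** -/
theorem devissage_twoImp_roots {K : X.Modules → Prop} (h0 : ∀ M : X.Modules, IsZero M → K M)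
    (ha : TwoImp K)
    (hroot : ∀ (F : X.Modules) (q : ℕ), 0 < q → Coh.IsCoh F → K (⨁ fun _ : Fin q => F) → K F)
    (X' : Set X)
    (hgen : ∀ (Z : Set X) (hZ : IsClosed Z), IsIrreducible Z → Z ⊆ X' → ∀ y : X, closure {y} = Z →
      ∃ G : X.Modules, Coh.IsCoh G ∧ K G ∧ CohB1.support G ⊆ Z ∧
        ClSub.KilledByIdeal (Scheme.IdealSheafData.vanishingIdeal ⟨Z, hZ⟩) G ∧ y ∈ CohB1.support G)
    (F : X.Modules) (hF : Coh.IsCoh F) (hsupp : CohB1.support F ⊆ X') : K F := by
  refine devissage_core h0 (fun S hS h1 h2 h3 => (ha S hS h1 h2 h3).2) X' ?_ F hF hsupp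
  intro Z hZ hirr hZX' y hy hsmall T hT hTsupp hTsimple
  obtain ⟨G, hG, hKG, hGsupp, hkill, hyG⟩ := hgen Z hZ hirr hZX' y hy
  exact mem_of_simple_of_killed ha hroot Z hZ y hy G hG hKG hGsupp hkill hyG hsmall T hT hTsupp
    hTsimple

/-- From a coherent module on the reduced closed subscheme on `Z` with nontrivial stalk at the
generic point: the direct image satisfies the hypotheses of the dévissage. -/
theorem push_witness (Wc : Closeds X) (hirr : IsIrreducible (Wc : Set X)) (y : X)
    (hy : closure {y} = (Wc : Set X))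
    (Hm : (Scheme.IdealSheafData.vanishingIdeal Wc).subscheme.Modules) (hHm : Coh.IsCoh Hm)
    (hnt : ∀ ξ : (Scheme.IdealSheafData.vanishingIdeal Wc).subscheme,
      (Scheme.IdealSheafData.vanishingIdeal Wc).subschemeι ξ = y →
        Nontrivial (Hm.presheaf.stalk ξ)) :
    Coh.IsCoh ((Scheme.Modules.pushforward
        (Scheme.IdealSheafData.vanishingIdeal Wc).subschemeι).obj Hm) ∧
      CohB1.support ((Scheme.Modules.pushforward
        (Scheme.IdealSheafData.vanishingIdeal Wc).subschemeι).obj Hm) ⊆ (Wc : Set X) ∧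
      ClSub.KilledByIdeal (Scheme.IdealSheafData.vanishingIdeal Wc)
        ((Scheme.Modules.pushforward
          (Scheme.IdealSheafData.vanishingIdeal Wc).subschemeι).obj Hm) ∧
      y ∈ CohB1.support ((Scheme.Modules.pushforward
        (Scheme.IdealSheafData.vanishingIdeal Wc).subschemeι).obj Hm) := by
  haveI : IsIntegral (Scheme.IdealSheafData.vanishingIdeal Wc).subscheme :=
    isIntegral_subscheme_vanishingIdeal Wc hirr
  have hr : Set.range (Scheme.IdealSheafData.vanishingIdeal Wc).subschemeι = (Wc : Set X) :=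
    range_subschemeι_vanishingIdeal Wc
  have hpt : (Scheme.IdealSheafData.vanishingIdeal Wc).subschemeι
      (genericPoint (Scheme.IdealSheafData.vanishingIdeal Wc).subscheme) = y :=
    closedImmersion_genericPoint _ y (hy.trans hr.symm)
  have := hHm.1
  have := hHm.2
  have hGq : ((Scheme.Modules.pushforward
      (Scheme.IdealSheafData.vanishingIdeal Wc).subschemeι).obj Hm).IsQuasicoherent :=
    isQuasicoherent_pushforward_of_isAffineHom _ _
  have hGf : ((Scheme.Modules.pushforward
      (Scheme.IdealSheafData.vanishingIdeal Wc).subschemeι).obj Hm).IsFiniteType :=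
    isFiniteType_pushforward_of_isFinite _ _
  refine ⟨⟨hGq, hGf⟩, ?_, ?_, ?_⟩
  · rw [Groth.Agent.Helper19.ClImmSupp.support_pushforward, ← hr]
    exact Set.image_subset_range _ _
  · intro U a ha m
    have h1 : (Scheme.IdealSheafData.vanishingIdeal Wc).subschemeι.ker =
      Scheme.IdealSheafData.vanishingIdeal Wc := (Scheme.IdealSheafData.vanishingIdeal Wc).ker_subschemeι
    rw [← h1, Scheme.Hom.ker_apply] at ha
    exact pushforward_killed _ Hm U.1 a ha m
  · rw [mem_support_iff, ← not_subsingleton_iff_nontrivial, ← hpt,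
      Groth.Agent.Helper19.ClImmSupp.subsingleton_stalk_pushforward_iff,
      not_subsingleton_iff_nontrivial]
    exact hnt _ hpt

end TopS

end Groth.Agent.Lib.Helper2.TFRep
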