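import Groth.Agent.Lib.Helper12.Dev9

/-! # A function invertible at a point killing the sections with vanishing germ (helper2) -/

set_option autoImplicit false
universe u v
open CategoryTheory CategoryTheory.Limits AlgebraicGeometry TopologicalSpace Opposite
open Groth.Agent.Lib.Helper29.QCoh

namespace Groth.Agent.Lib.Helper2.TFRep

variable {X : Scheme.{u}}

theorem exists_killer_span (G : X.Modules) [G.IsQuasicoherent] {U : X.Opens} (hU : IsAffineOpen U)
    (ξ : X) (hξ : ξ ∈ U) (S : Finset Γ(G, U))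
    (hS : ∀ n ∈ S, G.presheaf.germ U ξ hξ n = 0) :
    ∃ a : Γ(X, U), ξ ∈ X.basicOpen a ∧
      ∀ n ∈ Submodule.span Γ(X, U) (S : Set Γ(G, U)), a • n = 0 := by
  classical
  induction S using Finset.induction_on with
  | empty =>
    refine ⟨1, ?_, ?_⟩
    · rw [Scheme.basicOpen_of_isUnit _ isUnit_one]; exact hξ
    · intro n hn
      rw [Finset.coe_empty, Submodule.span_empty, Submodule.mem_bot] at hn
      rw [hn, smul_zero]
  | insert n₀ S hn₀ ih =>
    obtain ⟨a, haξ, ha⟩ := ih (fun n hn => hS n (Finset.mem_insert_of_mem hn))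
    obtain ⟨b, hbξ, hb⟩ := exists_smul_eq_zero_of_germ_eq_zero G hU ξ hξ n₀
      (hS n₀ (Finset.mem_insert_self _ _))
    refine ⟨b * a, basicOpen_mul_mem a b ξ haξ hbξ, ?_⟩
    intro n hn
    rw [Finset.coe_insert, Submodule.mem_span_insert] at hn
    obtain ⟨c, n', hn', rfl⟩ := hn
    have h1 : (b * a) • n' = 0 := by rw [mul_smul, ha n' hn', smul_zero]
    have h2 : (b * a) • (c • n₀) = 0 := by
      rw [smul_smul, mul_comm (b * a) c, mul_comm b a, ← mul_assoc, mul_smul, hb, smul_zero]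
    rw [smul_add, h1, h2, add_zero]

theorem exists_killer [IsLocallyNoetherian X] (G : X.Modules) (hG : Coh.IsCoh G) {U : X.Opens}
    (hU : IsAffineOpen U) (ξ : X) (hξ : ξ ∈ U) :
    ∃ a : Γ(X, U), ξ ∈ X.basicOpen a ∧
      ∀ n : Γ(G, U), G.presheaf.germ U ξ hξ n = 0 → a • n = 0 := by
  haveI := hG.1
  haveI := hG.2
  haveI := IsLocallyNoetherian.component_noetherian (X := X) ⟨U, hU⟩
  haveI hfin : Module.Finite Γ(X, U) Γ(G, U) := module_finite_of_isFiniteType G hU
  haveI hnoeth : IsNoetherian Γ(X, U) Γ(G, U) := isNoetherian_of_isNoetherianRing_of_finite _ _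
  letI := stalkModule G U ξ hξ
  let N : Submodule Γ(X, U) Γ(G, U) := LinearMap.ker (germₗ G U ξ hξ)
  obtain ⟨S, hS⟩ := (IsNoetherian.noetherian N : N.FG)
  obtain ⟨a, haξ, ha⟩ := exists_killer_span G hU ξ hξ S (fun n hn => by
    have : n ∈ N := by rw [← hS]; exact Submodule.subset_span hn
    exact this)
  refine ⟨a, haξ, fun n hn => ha n ?_⟩
  rw [hS]
  exact hn

end Groth.Agent.Lib.Helper2.TFRep
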