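import Groth.Agent.Lib.Helper2.TFRep.Step3

set_option autoImplicit false
universe u v
open CategoryTheory CategoryTheory.Limits AlgebraicGeometry TopologicalSpace Opposite
open Groth.Agent.Lib.Helper29.QCoh Groth.Agent.Lib.Helper3
open Groth.Agent.Lib.Helper12.H12ModGlue Groth.Agent.Lib.Helper12.H12Dev

namespace Groth.Agent.Lib.Helper2.TFRep

variable {X : Scheme.{u}}

/-- `ξ`-torsion-free: a section vanishing at `ξ` vanishes. -/
def IsTF (ξ : X) (G : X.Modules) : Prop :=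
  ∀ (V : X.Opens) (t : Γ(G, V)), (∀ h : ξ ∈ V, G.presheaf.germ V ξ h t = 0) → t = 0

theorem exists_sub_family [IsNoetherian X] (G : X.Modules) (hG : Coh.IsCoh G) (ξ : X)
    (hsupp : CohB1.support G ⊆ closure {ξ}) (𝒰 : Finset X.Opens)
    (h𝒰 : ∀ U ∈ 𝒰, IsAffineOpen U ∧ ξ ∈ U) :
    ∃ (G' : X.Modules) (m : G' ⟶ G), Mono m ∧ Coh.IsCoh G' ∧
      Function.Surjective (stalkMap m ξ) ∧
      ∀ (V : X.Opens) (t : Γ(G', V)), (∀ h : ξ ∈ V, G'.presheaf.germ V ξ h t = 0) →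
        ∀ U ∈ 𝒰, res G' (inf_le_left : V ⊓ U ≤ V) t = 0 := by
  classical
  induction 𝒰 using Finset.induction_on with
  | empty =>
    refine ⟨G, 𝟙 G, inferInstance, hG, ?_, ?_⟩
    · intro t
      exact ⟨t, stalkMap_id_apply ξ G t⟩
    · intro V t _ U hU
      exact absurd hU (Finset.notMem_empty U)
  | insert U 𝒰 hU𝒰 ih =>
    obtain ⟨G', m', hmono, hG', hsurj, htors⟩ :=
      ih (fun U' hU' => h𝒰 U' (Finset.mem_insert_of_mem hU'))
    have := hmono
    obtain ⟨hU, hξU⟩ := h𝒰 U (Finset.mem_insert_self _ _)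
    have hsupp' : CohB1.support G' ⊆ closure {ξ} := (support_subset_of_mono m').trans hsupp
    haveI := hG'.1
    obtain ⟨a, haξ, hkill⟩ := exists_killer G' hG' hU ξ hξU
    refine ⟨(stepSub G' U a).toModules, (stepSub G' U a).ι ≫ m', mono_comp _ _,
      isCoh_stepSub G' U a hG', ?_, ?_⟩
    · intro t
      obtain ⟨t', rfl⟩ := hsurj t
      obtain ⟨t'', rfl⟩ := stalkMap_ι_surjective G' U a ξ haξ t'
      exact ⟨t'', stalkMap_comp_apply _ _ ξ t''⟩
    · intro V t ht U' hU'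
      set s := (stepSub G' U a).ι.app V t with hs
      have hsmem : s ∈ (stepSub G' U a).carrier V := (stepSub G' U a).ι_app_mem V t
      have hsgerm : ∀ h : ξ ∈ V, G'.presheaf.germ V ξ h s = 0 := by
        intro h
        rw [hs, ← stalkMap_germ, ht h, map_zero]
      have key : res G' (inf_le_left : V ⊓ U' ≤ V) s = 0 := by
        rcases Finset.mem_insert.mp hU' with rfl | hU''
        · exact res_eq_zero_of_torsion G' U' a hU ξ haξ hsupp' hkill V s hsmem hsgerm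
        · exact htors V s hsgerm U' hU''
      apply (stepSub G' U a).ι_app_injective (V ⊓ U')
      rw [app_res, map_zero]
      exact key

theorem exists_tf_sub [IsNoetherian X] (G : X.Modules) (hG : Coh.IsCoh G) (ξ : X)
    (hsupp : CohB1.support G ⊆ closure {ξ}) :
    ∃ (G' : X.Modules) (m : G' ⟶ G), Mono m ∧ Coh.IsCoh G' ∧
      Function.Surjective (stalkMap m ξ) ∧ IsTF ξ G' := by
  classical
  have hcpt : IsCompact (closure ({ξ} : Set X)) := isClosed_closure.isCompact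
  have hex : ∀ x : X, ∃ W : X.Opens, IsAffineOpen W ∧ x ∈ W := fun x => by
    obtain ⟨W, hW, hxW, -⟩ := exists_isAffineOpen_mem_and_subset (x := x) (U := ⊤) trivial
    exact ⟨W, hW, hxW⟩
  choose W hW hxW using hex
  obtain ⟨T, hT⟩ := hcpt.elim_finite_subcover (fun x : X => (W x : Set X))
    (fun x => (W x).2) (fun x _ => Set.mem_iUnion.mpr ⟨x, hxW x⟩)
  set 𝒰 : Finset X.Opens := (T.image W).filter (fun U => ξ ∈ U) with h𝒰def
  have h𝒰 : ∀ U ∈ 𝒰, IsAffineOpen U ∧ ξ ∈ U := by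
    intro U hU
    rw [h𝒰def, Finset.mem_filter, Finset.mem_image] at hU
    obtain ⟨⟨x, -, rfl⟩, hξ⟩ := hU
    exact ⟨hW x, hξ⟩
  have hcov : ∀ y ∈ closure ({ξ} : Set X), ∃ U ∈ 𝒰, y ∈ U := by
    intro y hy
    obtain ⟨x, hx⟩ := Set.mem_iUnion.mp (hT hy)
    obtain ⟨hxT, hyx⟩ := Set.mem_iUnion.mp hx
    refine ⟨W x, ?_, hyx⟩
    rw [h𝒰def, Finset.mem_filter, Finset.mem_image]
    exact ⟨⟨x, hxT, rfl⟩, mem_of_mem_closure_singleton (W x) hyx hy⟩
  obtain ⟨G', m, hmono, hG', hsurj, htors⟩ := exists_sub_family G hG ξ hsupp 𝒰 h𝒰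
  have := hmono
  refine ⟨G', m, hmono, hG', hsurj, ?_⟩
  intro V t ht
  refine eq_zero_of_germ_eq_zero G' t (fun x hx => ?_)
  by_cases hxc : x ∈ closure ({ξ} : Set X)
  · obtain ⟨U, hU, hxU⟩ := hcov x hxc
    have h1 := htors V t ht U hU
    have h2 := germ_res G' (inf_le_left : V ⊓ U ≤ V) x ⟨hx, hxU⟩ t
    rw [← h2, h1, map_zero]
  · haveI := subsingleton_stalk_of_notMem_closure G' ξ x
      ((support_subset_of_mono m).trans hsupp) hxc
    exact Subsingleton.elim _ _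

end Groth.Agent.Lib.Helper2.TFRep
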