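import Groth.Agent.Lib.Helper2.TFRep.Kill
import Groth.Agent.Lib.Helper17.CohThick

/-! # One step of the torsion-free replacement (helper2)

For an open `U`, a function `a` on `U` and a module `G`, the subsheaf `G₁ ⊆ G` of the sections
whose restriction to `U` is locally a multiple of `a`. -/

set_option autoImplicit false
universe u v
open CategoryTheory CategoryTheory.Limits AlgebraicGeometry TopologicalSpace Opposite
open Groth.Agent.Lib.Helper29.QCoh Groth.Agent.Lib.Helper3
open Groth.Agent.Lib.Helper12.H12ModGlue Groth.Agent.Lib.Helper12.H12Dev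

namespace Groth.Agent.Lib.Helper2.TFRep

variable {X : Scheme.{u}} (G : X.Modules) (U : X.Opens) (a : Γ(X, U))

/-- the restriction of `a` to `j j⁻¹ V`. -/
noncomputable def aOn (V : X.Opens) : Γ(X, U.ι ''ᵁ (U.ι ⁻¹ᵁ V)) :=
  X.presheaf.map (homOfLE (image_preimage_le_self U V)).op a

noncomputable def mulFun (V : X.Opens) :
    Γ((onImm U.ι).obj G, V) →+ Γ((onImm U.ι).obj G, V) :=
  DistribSMul.toAddMonoidHom Γ(G, U.ι ''ᵁ (U.ι ⁻¹ᵁ V)) (aOn U a V)

theorem mulFun_apply (V : X.Opens) (σ : Γ(G, U.ι ''ᵁ (U.ι ⁻¹ᵁ V))) :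
    mulFun G U a V σ = aOn U a V • σ := rfl

theorem mulFun_smul (V : X.Opens) (r : Γ(X, V)) (σ : Γ((onImm U.ι).obj G, V)) :
    mulFun G U a V (r • σ) = r • mulFun G U a V σ := by
  have e1 := onImm_smul U.ι G V r σ
  have e2 := onImm_smul U.ι G V r (mulFun G U a V σ)
  refine Eq.trans ?_ e2.symm
  refine (congrArg (mulFun G U a V) e1).trans ?_
  rw [mulFun_apply, mulFun_apply, smul_smul, smul_smul, mul_comm]

theorem mulFun_res {V V' : X.Opens} (h : V' ≤ V) (σ : Γ((onImm U.ι).obj G, V)) :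
    mulFun G U a V' (res ((onImm U.ι).obj G) h σ) =
      res ((onImm U.ι).obj G) h (mulFun G U a V σ) := by
  refine (congrArg (mulFun G U a V') (onImm_res U.ι G h σ)).trans ?_
  refine Eq.trans ?_ (onImm_res U.ι G h (mulFun G U a V σ)).symm
  rw [mulFun_apply, mulFun_apply, res_smul]
  congr 1
  exact (map_map_apply X _ _ a).symm

/-- multiplication by `a` on `j_* j^* G`. -/
noncomputable def mulA : (onImm U.ι).obj G ⟶ (onImm U.ι).obj G :=
  homOfApp (mulFun G U a) (mulFun_smul G U a) (fun h σ => mulFun_res G U a h σ)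

theorem mulA_app (V : X.Opens) (σ : Γ(G, U.ι ''ᵁ (U.ι ⁻¹ᵁ V))) :
    (mulA G U a).app V σ = aOn U a V • σ := rfl

/-- `G ⟶ j_* j^* G / a`. -/
noncomputable def etaA : G ⟶ cokernel (mulA G U a) :=
  (ηI U.ι).app G ≫ cokernel.π (mulA G U a)

open ZeroObject in
/-- the subsheaf of sections whose restriction to `U` is locally a multiple of `a`. -/
noncomputable def stepSub : SubSh G :=
  SubSh.pre (etaA G U a) (0 : (0 : X.Modules) ⟶ cokernel (mulA G U a))

theorem mem_stepSub (T : X.Opens) (s : Γ(G, T)) :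
    s ∈ (stepSub G U a).carrier T ↔ (etaA G U a).app T s = 0 := by
  unfold stepSub
  rw [SubSh.mem_pre]
  constructor
  · rintro ⟨g, hg⟩
    rw [← hg]
    rfl
  · intro h
    exact ⟨0, by rw [h, map_zero]⟩

end Groth.Agent.Lib.Helper2.TFRep
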