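import Groth.Agent.Lib.Helper2.TFRep.Step

set_option autoImplicit false
universe u v
open CategoryTheory CategoryTheory.Limits AlgebraicGeometry TopologicalSpace Opposite
open Groth.Agent.Lib.Helper29.QCoh Groth.Agent.Lib.Helper3
open Groth.Agent.Lib.Helper12.H12ModGlue Groth.Agent.Lib.Helper12.H12Dev

namespace Groth.Agent.Lib.Helper2.TFRep

variable {X : Scheme.{u}} (G : X.Modules) (U : X.Opens) (a : Γ(X, U))

open ZeroObject in
theorem isCoh_stepSub [IsNoetherian X] (hG : Coh.IsCoh G) :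
    Coh.IsCoh (stepSub G U a).toModules := by
  haveI := hG.1
  haveI := hG.2
  haveI := quasiCompact_ι U
  haveI : ((onImm U.ι).obj G).IsQuasicoherent := isQuasicoherent_onImm U.ι G
  haveI : (cokernel (mulA G U a)).IsQuasicoherent := inferInstance
  haveI : (0 : X.Modules).IsQuasicoherent :=
    (Groth.Agent.Lib.Helper17.CohThick.isCoh_of_isZero X (isZero_zero _)).1
  haveI hq : (stepSub G U a).toModules.IsQuasicoherent :=
    SubSh.isQuasicoherent_toModules (stepSub G U a) (fun T : X.affineOpens => (T : X.Opens))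
      (isOpenCover_affineOpens X) (fun T => T.2) (fun T => SubSh.isQCOn_pre _ _ T.2)
  exact ⟨hq, isFiniteType_of_mono (stepSub G U a).ι⟩

theorem mulA_comp_π : mulA G U a ≫ cokernel.π (mulA G U a) = 0 := cokernel.condition _

theorem mem_stepSub_of_le_basicOpen {V : X.Opens} (hV : V ≤ X.basicOpen a) (s : Γ(G, V)) :
    s ∈ (stepSub G U a).carrier V := by
  rw [mem_stepSub]
  unfold etaA
  rw [Scheme.Modules.Hom.comp_app]
  change (cokernel.π (mulA G U a)).app V (((ηI U.ι).app G).app V s) = 0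
  rw [ηI_app_app]
  set s' := res G (U.ι.image_preimage_le V) s with hs'
  have hle : U.ι ''ᵁ (U.ι ⁻¹ᵁ V) ≤ X.basicOpen a := (U.ι.image_preimage_le V).trans hV
  obtain ⟨u, hu⟩ := SubSh.isUnit_res_of_le_basicOpen a (image_preimage_le_self U V) hle
  have h1 : s' = (mulA G U a).app V ((↑u⁻¹ : Γ(X, U.ι ''ᵁ (U.ι ⁻¹ᵁ V))) • s') := by
    rw [mulA_app]
    unfold aOn
    rw [← hu, smul_smul, Units.mul_inv, one_smul]
  rw [h1]
  have := congrArg (fun k => k.app V ((↑u⁻¹ : Γ(X, U.ι ''ᵁ (U.ι ⁻¹ᵁ V))) • s')) (mulA_comp_π G U a)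
  exact this

theorem stalkMap_ι_surjective (ξ : X) (hξ : ξ ∈ X.basicOpen a) :
    Function.Surjective (stalkMap (stepSub G U a).ι ξ) := by
  intro t
  obtain ⟨V, hVD, hξV, s, rfl⟩ := G.presheaf.exists_le_germ_eq t hξ
  have hs := mem_stepSub_of_le_basicOpen G U a hVD s
  refine ⟨(stepSub G U a).toModules.presheaf.germ V ξ hξV ((stepSub G U a).mkSec V s hs), ?_⟩
  rw [stalkMap_germ, SubSh.ι_app_mkSec]

end Groth.Agent.Lib.Helper2.TFRep
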