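import Groth.Agent.Lib.Helper2.TFRep.Step2

set_option autoImplicit false
universe u v
open CategoryTheory CategoryTheory.Limits AlgebraicGeometry TopologicalSpace Opposite
open Groth.Agent.Lib.Helper29.QCoh Groth.Agent.Lib.Helper3
open Groth.Agent.Lib.Helper12.H12ModGlue Groth.Agent.Lib.Helper12.H12Dev

namespace Groth.Agent.Lib.Helper2.TFRep

variable {X : Scheme.{u}} (G : X.Modules) (U : X.Opens) (a : Γ(X, U))

/-- a section of the step subsheaf over an affine `W ≤ U` is a multiple of `a`. -/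
theorem exists_eq_smul_of_mem_stepSub [IsNoetherian X] [G.IsQuasicoherent] {W : X.Opens}
    (hW : IsAffineOpen W) (hWU : W ≤ U) (s : Γ(G, W)) (hs : s ∈ (stepSub G U a).carrier W) :
    ∃ g : Γ(G, W), s = X.presheaf.map (homOfLE hWU).op a • g := by
  haveI := quasiCompact_ι U
  haveI : ((onImm U.ι).obj G).IsQuasicoherent := isQuasicoherent_onImm U.ι G
  rw [mem_stepSub] at hs
  have hex := app_exact_of_exact
    (ShortComplex.mk (mulA G U a) (cokernel.π (mulA G U a)) (cokernel.condition _))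
    (ShortComplex.exact_cokernel _) hW
  have h0 : (cokernel.π (mulA G U a)).app W (((ηI U.ι).app G).app W s) = 0 := hs
  obtain ⟨ĝ, hĝ⟩ := (hex _).mp h0
  have hĝ' : aOn U a W • (show Γ(G, U.ι ''ᵁ (U.ι ⁻¹ᵁ W)) from ĝ) =
      res G (U.ι.image_preimage_le W) s := hĝ
  have e : U.ι ''ᵁ (U.ι ⁻¹ᵁ W) = W := ι_image_preimage_of_le U hWU
  refine ⟨res G e.ge (show Γ(G, U.ι ''ᵁ (U.ι ⁻¹ᵁ W)) from ĝ), ?_⟩
  have h1 := congrArg (res G e.ge) hĝ'
  rw [res_smul, res_res, res_self] at h1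
  rw [← h1]
  congr 1
  unfold aOn
  exact map_map_apply X _ _ a

end Groth.Agent.Lib.Helper2.TFRep

namespace Groth.Agent.Lib.Helper2.TFRep

variable {X : Scheme.{u}} (G : X.Modules) (U : X.Opens) (a : Γ(X, U))

theorem subsingleton_stalk_of_notMem_closure (ξ x : X)
    (hsupp : CohB1.support G ⊆ closure {ξ}) (hx : x ∉ closure ({ξ} : Set X)) :
    Subsingleton (G.presheaf.stalk x) := by
  rw [← notMem_support_iff]
  exact fun h => hx (hsupp h)

theorem mem_of_mem_closure_singleton {ξ x : X} (W : X.Opens) (hxW : x ∈ W)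
    (hx : x ∈ closure ({ξ} : Set X)) : ξ ∈ W := by
  rw [mem_closure_iff] at hx
  obtain ⟨y, hyW, hy⟩ := hx W W.2 hxW
  rw [Set.mem_singleton_iff] at hy
  rwa [hy] at hyW

/-- the key local statement on a basic open of `U`. -/
theorem res_basicOpen_eq_zero [IsNoetherian X] [G.IsQuasicoherent] (hU : IsAffineOpen U) (ξ : X)
    (hξ : ξ ∈ X.basicOpen a) (hsupp : CohB1.support G ⊆ closure {ξ})
    (hkill : ∀ n : Γ(G, U), G.presheaf.germ U ξ (X.basicOpen_le a hξ) n = 0 → a • n = 0)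
    (f : Γ(X, U)) (s : Γ(G, X.basicOpen f)) (hs : s ∈ (stepSub G U a).carrier (X.basicOpen f))
    (hgerm : ∀ h : ξ ∈ X.basicOpen f, G.presheaf.germ (X.basicOpen f) ξ h s = 0) : s = 0 := by
  have hWU : X.basicOpen f ≤ U := X.basicOpen_le f
  have hW : IsAffineOpen (X.basicOpen f) := hU.basicOpen f
  by_cases hξW : ξ ∈ X.basicOpen f
  · obtain ⟨g, hg⟩ := exists_eq_smul_of_mem_stepSub G U a hW hWU s hs
    have hξU : ξ ∈ U := X.basicOpen_le a hξ
    -- germ of g vanishes
    have h1 : G.presheaf.germ (X.basicOpen f) ξ hξW g = 0 := by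
      have h2 := hgerm hξW
      rw [hg, germ_smul] at h2
      refine eq_zero_of_isUnit_smul ?_ h2
      have h3 : X.presheaf.germ (X.basicOpen f) ξ hξW (X.presheaf.map (homOfLE hWU).op a) =
          X.presheaf.germ U ξ hξU a := X.presheaf.germ_res_apply (homOfLE hWU) ξ hξW a
      rw [h3]
      exact isUnit_germ_of_mem_basicOpen a ξ hξU hξ
    obtain ⟨k, g₀, hk⟩ := exists_pow_smul_eq_res G hU f g
    have h4 : G.presheaf.germ U ξ hξU g₀ = 0 := by
      rw [← germ_res G hWU ξ hξW g₀, ← hk, germ_smul, h1, smul_zero]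
    have h5 : a • g₀ = 0 := hkill g₀ h4
    have h6 : (X.presheaf.map (homOfLE hWU).op f) ^ k • s = 0 := by
      rw [hg, smul_comm, hk, ← res_smul, h5, map_zero]
    have hunit : IsUnit (X.presheaf.map (homOfLE hWU).op f) :=
      RingedSpace.isUnit_res_basicOpen X.toRingedSpace f
    exact eq_zero_of_isUnit_smul (hunit.pow k) h6
  · refine eq_zero_of_germ_eq_zero G s (fun x hx => ?_)
    have hxc : x ∉ closure ({ξ} : Set X) := fun h =>
      hξW (mem_of_mem_closure_singleton (X.basicOpen f) hx h)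
    haveI := subsingleton_stalk_of_notMem_closure G ξ x hsupp hxc
    exact Subsingleton.elim _ _

theorem res_eq_zero_of_torsion [IsNoetherian X] [G.IsQuasicoherent] (hU : IsAffineOpen U) (ξ : X)
    (hξ : ξ ∈ X.basicOpen a) (hsupp : CohB1.support G ⊆ closure {ξ})
    (hkill : ∀ n : Γ(G, U), G.presheaf.germ U ξ (X.basicOpen_le a hξ) n = 0 → a • n = 0)
    (V : X.Opens) (s : Γ(G, V)) (hs : s ∈ (stepSub G U a).carrier V)
    (hgerm : ∀ h : ξ ∈ V, G.presheaf.germ V ξ h s = 0) :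
    res G (inf_le_left : V ⊓ U ≤ V) s = 0 := by
  choose f hfle hxf using fun x : (V ⊓ U : X.Opens) =>
    hU.exists_basicOpen_le ⟨x.1, x.2⟩ x.2.2
  refine eq_zero_of_res_cover_eq_zero G (fun x => X.basicOpen (f x)) hfle ?_ _ (fun x => ?_)
  · intro y hy
    exact Opens.mem_iSup.mpr ⟨⟨y, hy⟩, hxf ⟨y, hy⟩⟩
  · rw [res_res]
    apply res_basicOpen_eq_zero G U a hU ξ hξ hsupp hkill (f x)
    · exact (stepSub G U a).res_mem ((hfle x).trans inf_le_left) hs
    · intro h
      rw [germ_res]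
      exact hgerm (((hfle x).trans inf_le_left) h)

end Groth.Agent.Lib.Helper2.TFRep
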